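import Groth.Agent.S2422
import Groth.Agent.L16.Blow.Integral
import Groth.Agent.L13.BlowUp.Exists
import Groth.Agent.L07.RatSection
import Groth.Agent.L18.FactorDesc
import Groth.Agent.L03.RegularNormal
import Groth.Prelude.Def_ModelsG

/-!
# Functions on a contraction come from the base
-/

set_option autoImplicit false
set_option linter.style.haveILetI false
set_option backward.isDefEq.respectTransparency false

universe u

open CategoryTheory CategoryTheory.Limits AlgebraicGeometry TopologicalSpace Opposite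

noncomputable section

namespace Groth.L13.Contraction

variable {X Z : Scheme.{u}}

theorem isBlowUp_of_iso_source {X' : Scheme.{u}} (e : X' ≅ X) {σ : X ⟶ Z} {I : Z.IdealSheafData}
    (hb : BlowUp.IsBlowUp σ I) : BlowUp.IsBlowUp (e.hom ≫ σ) I := by
  refine ⟨?_, fun Y g hY => ?_⟩
  · rw [Scheme.IdealSheafData.comap_comp]
    exact Groth.L22.Ideals.isEffCartier_comap_of_flat e.hom hb.1
  · obtain ⟨k, hk, huniq⟩ := hb.2 Y g hY
    refine ⟨k ≫ e.inv, by simp [hk], fun l hl => ?_⟩
    rw [← huniq (l ≫ e.hom) (by show (l ≫ e.hom) ≫ σ = g; rw [Category.assoc]; exact hl), Category.assoc,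
      e.hom_inv_id, Category.comp_id]

theorem isIso_restrict_mono (σ : X ⟶ Z) {W C : Z.Opens} (hle : W ≤ C) [IsIso (σ ∣_ C)] : IsIso (σ ∣_ W) := by
  have h : MorphismProperty.isomorphisms Scheme (σ ∣_ C) := inferInstanceAs (IsIso (σ ∣_ C))
  exact ((MorphismProperty.isomorphisms Scheme).arrow_mk_iso_iff (morphismRestrictRestrict σ C (C.ι ⁻¹ᵁ W) ≪≫
    morphismRestrictEq σ (by rw [Scheme.Hom.image_preimage_eq_opensRange_inf, Scheme.Opens.opensRange_ι, inf_eq_right.2 hle]))).1
    (IsZariskiLocalAtTarget.restrict h _)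

/-- Over an integral affine scheme, functions on a blow-up in a normal closed point come from the base. -/
theorem bijective_app_integral [IsIntegral Z] {y : Z} (hy : IsClosed ({y} : Set Z)) (σ : X ⟶ Z)
    [UniversallyClosed σ] {I : Z.IdealSheafData} (hsupp : ∀ z : Z, z ∈ I.support → z = y) (hI : I ≠ ⊥)
    (hb : BlowUp.IsBlowUp σ I) (hn : IsIntegrallyClosed (Z.presheaf.stalk y)) [IsAffine Z] :
    Function.Bijective (σ.app ⊤) := by
  obtain ⟨_, he, hiso⟩ := Groth.L16.Blow.isIntegral_and_birational hb hI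
  haveI := hiso
  haveI := hn
  have hdom : σ (genericPoint X) ⤳ genericPoint Z := specializes_of_eq he
  let φ : Z.functionField →+* X.functionField := CohIII.stalkToFunctionField σ (genericPoint Z) hdom
  have hcompat : ∀ (W : Z.Opens) (hW : genericPoint Z ∈ W) (c : Γ(Z, W)),
      φ (Z.presheaf.germ W _ hW c) = X.presheaf.germ (σ ⁻¹ᵁ W) (genericPoint X)
        (show σ (genericPoint X) ∈ W from he ▸ hW) (σ.app W c) := by
    intro W hW c
    change σ.stalkMap (genericPoint X) (Z.presheaf.stalkSpecializes hdom (Z.presheaf.germ W _ hW c)) = _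
    rw [TopCat.Presheaf.germ_stalkSpecializes_apply]
    exact σ.germ_stalkMap_apply W (genericPoint X) _ c
  have hφ : Function.Bijective φ := by
    haveI : IsIso (Z.presheaf.stalkSpecializes hdom) := (Z.presheaf.stalkCongr (.of_eq he)).symm.isIso_hom
    exact (ConcreteCategory.isIso_iff_bijective (Z.presheaf.stalkSpecializes hdom ≫ σ.stalkMap (genericPoint X))).1
      inferInstance
  refine ⟨fun a b hab => ?_, fun s => ?_⟩
  · refine germ_injective_of_isIntegral Z (genericPoint Z) (U := (⊤ : Z.Opens)) trivial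
      (hφ.1 ((hcompat ⊤ trivial a).trans (Eq.trans ?_ (hcompat ⊤ trivial b).symm)))
    rw [hab]
  obtain ⟨t, ht⟩ := hφ.2 (X.presheaf.germ (σ ⁻¹ᵁ ⊤) (genericPoint X) trivial s)
  have key : ∀ z : Z, ∃ (W : Z.Opens) (hzW : z ∈ W) (c : Γ(Z, W)),
      Z.presheaf.germ W (genericPoint Z) ((genericPoint_spec Z).mem_open_set_iff W.isOpen |>.2
        ⟨z, trivial, hzW⟩) c = t := by
    intro z
    by_cases hz : z = y
    · subst hz
      obtain ⟨q, hq, hqs⟩ := Groth.Agent.S2422.isIntegral_app σ (isAffineOpen_top Z) s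
      letI := (Z.presheaf.stalkSpecializes (genericPoint_specializes z)).hom.toAlgebra
      haveI : IsFractionRing (Z.presheaf.stalk z) Z.functionField := inferInstance
      have hroot : Polynomial.eval₂ (Z.presheaf.germ ⊤ (genericPoint Z) trivial).hom t q = 0 := by
        refine hφ.1 ?_
        rw [Polynomial.hom_eval₂, map_zero, ht]
        have h0 := congrArg (X.presheaf.germ (σ ⁻¹ᵁ ⊤) (genericPoint X) trivial).hom hqs
        rw [Polynomial.hom_eval₂, map_zero] at h0
        rw [show φ.comp (Z.presheaf.germ ⊤ (genericPoint Z) trivial).hom =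
          (X.presheaf.germ (σ ⁻¹ᵁ ⊤) (genericPoint X) trivial).hom.comp (σ.app ⊤).hom from
            RingHom.ext fun c => hcompat ⊤ trivial c]
        exact h0
      have hint : _root_.IsIntegral (Z.presheaf.stalk z) t := by
        refine ⟨q.map (Z.presheaf.germ ⊤ z trivial).hom, hq.map _, ?_⟩
        rw [Polynomial.eval₂_map, show (algebraMap (Z.presheaf.stalk z) Z.functionField).comp
          (Z.presheaf.germ ⊤ z trivial).hom = (Z.presheaf.germ ⊤ (genericPoint Z) trivial).hom from
          RingHom.ext fun c => TopCat.Presheaf.germ_stalkSpecializes_apply Z.presheaf (U := ⊤) (Opens.mem_top z) (genericPoint_specializes z) c]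
        exact hroot
      obtain ⟨r, hr⟩ := IsIntegrallyClosed.isIntegral_iff.1 hint
      obtain ⟨W, hzW, c, rfl⟩ := TopCat.Presheaf.exists_germ_eq (F := Z.presheaf) (x := z) r
      exact ⟨W, hzW, c, (TopCat.Presheaf.germ_stalkSpecializes_apply Z.presheaf hzW
        (genericPoint_specializes z) c).symm.trans hr⟩
    · let C : Z.Opens := I.support.compl
      have hzC : z ∈ C := fun h => hz (hsupp z h)
      haveI := Groth.L22.Ideals.isIso_restrict_compl hb
      haveI : IsIso (σ.app C) := by
        have h1 : IsIso ((σ ∣_ C).appTop) := inferInstance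
        rw [morphismRestrict_appTop] at h1
        have h2 : IsIso (σ.app (C.ι ''ᵁ ⊤)) := @IsIso.of_isIso_comp_right _ _ _ _ _ _ _ inferInstance h1
        rwa [C.ι_image_top] at h2
      obtain ⟨c, hc⟩ := (ConcreteCategory.bijective_of_isIso (σ.app C)).2
        (X.presheaf.map (homOfLE (le_top : σ ⁻¹ᵁ C ≤ σ ⁻¹ᵁ ⊤)).op s)
      refine ⟨C, hzC, c, hφ.1 ?_⟩
      rw [ht, hcompat, hc]
      exact TopCat.Presheaf.germ_res_apply X.presheaf _ _ _ s
  choose W hzW c hc using key
  have hcov : (⊤ : Z.Opens) ≤ iSup W := fun z _ => Opens.mem_iSup.2 ⟨z, hzW z⟩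
  obtain ⟨b, hb', -⟩ := Z.sheaf.existsUnique_gluing' W ⊤ (fun z => homOfLE le_top) hcov c fun z z' => by
    refine germ_injective_of_isIntegral Z (genericPoint Z) (U := W z ⊓ W z')
      ⟨(genericPoint_spec Z).mem_open_set_iff (W z).isOpen |>.2 ⟨z, trivial, hzW z⟩,
      (genericPoint_spec Z).mem_open_set_iff (W z').isOpen |>.2 ⟨z', trivial, hzW z'⟩⟩ ?_
    refine (TopCat.Presheaf.germ_res_apply Z.presheaf _ _ _ (c z)).trans
      (((hc z).trans (hc z').symm).trans (TopCat.Presheaf.germ_res_apply Z.presheaf _ _ _ (c z')).symm)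
  refine ⟨b, germ_injective_of_isIntegral X (genericPoint X) (U := σ ⁻¹ᵁ ⊤) trivial ?_⟩
  refine (hcompat ⊤ trivial b).symm.trans (Eq.trans ?_ ht)
  refine congrArg φ (Eq.trans ?_ (hc (genericPoint Z)))
  rw [← hb' (genericPoint Z)]
  exact (TopCat.Presheaf.germ_res_apply Z.presheaf _ _ _ b).symm

/-- A contraction does not change functions. -/
theorem bijective_app {y : Z} (hy : IsClosed ({y} : Set Z)) (σ : X ⟶ Z) [UniversallyClosed σ] [IsLocallyNoetherian Z]
    [IsDomain (Z.presheaf.stalk y)] (hn : IsIntegrallyClosed (Z.presheaf.stalk y))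
    (hpos : ¬ IsField (Z.presheaf.stalk y))
    (hb : BlowUp.IsBlowUp σ (Scheme.IdealSheafData.vanishingIdeal ⟨{y}, hy⟩)) (V : Z.Opens) :
    Function.Bijective (σ.app V) := by
  obtain ⟨U, hyU, hU, hUint⟩ := Groth.L07.RatSection.exists_integral_nhd y
  let I := Scheme.IdealSheafData.vanishingIdeal (⟨{y}, hy⟩ : Closeds Z)
  have hsupp : ∀ z : Z, z ∈ I.support → z = y := fun z hz => by
    have h : z ∈ (I.support : Set Z) := hz
    simpa [I] using h
  -- affine opens inside `U` or avoiding `y`
  let ok : Z.Opens → Prop := fun W => IsAffineOpen W ∧ (W ≤ U ∨ y ∉ W)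
  have hok : ∀ W, ok W → Function.Bijective (σ.app W) := by
    rintro W ⟨hW, hcase⟩
    haveI : IsAffine W.toScheme := hW
    have htop : Function.Bijective ((σ ∣_ W).app ⊤) := by
      by_cases hyW : y ∈ W
      · have hle : W ≤ U := hcase.resolve_right (fun h => h hyW)
        haveI := hUint
        haveI : Nonempty W.toScheme := ⟨⟨y, hyW⟩⟩
        haveI : IsIntegral W.toScheme := isIntegral_of_isOpenImmersion (Z.homOfLE hle)
        have hb' : BlowUp.IsBlowUp (σ ∣_ W) (I.comap W.ι) :=
          isBlowUp_of_iso_source (pullbackRestrictIsoRestrict σ W).symm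
            (Groth.L13.BU.isBlowUp_pullback W.ι hb |> fun h => by
              have := isBlowUp_of_iso_source (pullbackSymmetry σ W.ι) h
              rwa [pullbackSymmetry_hom_comp_fst] at this) |> fun h => by
                simpa [morphismRestrict] using h
        let y' : W.toScheme := ⟨y, hyW⟩
        have hy' : IsClosed ({y'} : Set W.toScheme) := by
          have : ({y'} : Set W.toScheme) = W.ι ⁻¹' {y} := by
            ext z
            exact ⟨fun h => congrArg W.ι h, fun h => Subtype.ext h⟩
          rw [this]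
          exact hy.preimage W.ι.continuous
        have hn' : IsIntegrallyClosed (W.toScheme.presheaf.stalk y') := by
          haveI := hn
          exact IsIntegrallyClosed.of_equiv (W.stalkIso y').symm.commRingCatIsoToRingEquiv
        refine bijective_app_integral hy' (σ ∣_ W) (fun z hz => ?_) (fun hbot => ?_) hb' hn'
        · rw [Scheme.IdealSheafData.support_comap] at hz
          exact Subtype.ext (hsupp (W.ι z) hz)
        · refine hpos ?_
          have h1 : ((I.comap W.ι).support : Set W.toScheme) = Set.univ := by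
            rw [hbot, Scheme.IdealSheafData.support_bot]; rfl
          have hgen : genericPoint W.toScheme = y' := by
            have h2 : genericPoint W.toScheme ∈ ((I.comap W.ι).support : Set W.toScheme) := h1 ▸ trivial
            rw [Scheme.IdealSheafData.support_comap] at h2
            exact Subtype.ext (hsupp _ h2)
          have hF : IsField (W.toScheme.presheaf.stalk (genericPoint W.toScheme)) :=
            Field.toIsField W.toScheme.functionField
          have key : ∀ z : W.toScheme, genericPoint W.toScheme = z → IsField (W.toScheme.presheaf.stalk z) := by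
            intro z hz
            subst hz
            exact hF
          exact (W.stalkIso y').symm.commRingCatIsoToRingEquiv.toMulEquiv.isField (key y' hgen)
      · haveI := Groth.L22.Ideals.isIso_restrict_compl hb
        haveI : IsIso (σ ∣_ W) := by
          have hle : W ≤ I.support.compl := fun z hz h => hyW (hsupp z h ▸ hz)
          exact isIso_restrict_mono σ hle
        exact ConcreteCategory.bijective_of_isIso _
    haveI : IsIso ((σ ∣_ W).app ⊤) := (ConcreteCategory.isIso_iff_bijective _).2 htop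
    haveI : IsIso (σ.app W) := by
      have h1 : IsIso ((σ ∣_ W).appTop) := inferInstanceAs (IsIso ((σ ∣_ W).app ⊤))
      rw [morphismRestrict_appTop] at h1
      have h2 : IsIso (σ.app (W.ι ''ᵁ ⊤)) := @IsIso.of_isIso_comp_right _ _ _ _ _ _ _ inferInstance h1
      rwa [W.ι_image_top] at h2
    exact ConcreteCategory.bijective_of_isIso _
  have hbasis : Opens.IsBasis (setOf ok) := by
    refine Opens.isBasis_iff_nbhd.2 fun {O z} hz => ?_
    by_cases hzy : z = y
    · obtain ⟨W, hW, hzW, hle⟩ := exists_isAffineOpen_mem_and_subset (x := z) (U := O ⊓ U) ⟨hz, hzy ▸ hyU⟩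
      exact ⟨W, ⟨hW, Or.inl fun a ha => (hle ha).2⟩, hzW, fun a ha => (hle ha).1⟩
    · obtain ⟨W, hW, hzW, hle⟩ := exists_isAffineOpen_mem_and_subset (x := z)
        (U := O ⊓ ⟨{y}ᶜ, hy.isOpen_compl⟩) ⟨hz, hzy⟩
      exact ⟨W, ⟨hW, Or.inr fun h => (hle h).2 rfl⟩, hzW, fun a ha => (hle ha).1⟩
  let G : TopCat.Sheaf CommRingCat.{u} Z := (TopCat.Sheaf.pushforward CommRingCat σ.base).obj X.sheaf
  let α : Z.sheaf ⟶ G := ⟨σ.c⟩
  refine TopCat.Presheaf.app_bijective_of_stalkFunctor_map_bijective α V fun z hz => ⟨?_, fun t => ?_⟩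
  · exact TopCat.Presheaf.stalkFunctor_map_injective_of_isBasis (α := α.1) hbasis (fun W hW => (hok W hW).1) z
  · obtain ⟨O, hzO, s, rfl⟩ := TopCat.Presheaf.exists_germ_eq G.1 t
    obtain ⟨W, hW, hzW, hWO⟩ := Opens.isBasis_iff_nbhd.1 hbasis hzO
    obtain ⟨c, hc⟩ := (hok W hW).2 (G.1.map (homOfLE hWO).op s)
    exact ⟨Z.presheaf.germ W z hzW c, (TopCat.Presheaf.stalkFunctor_map_germ_apply W z hzW α.1 c).trans
      ((congrArg (TopCat.Presheaf.germ G.1 W z hzW) hc).trans (TopCat.Presheaf.germ_res_apply G.1 _ _ hzW s))⟩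

end Groth.L13.Contraction
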