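import Groth.Agent.L13.Contraction.Basic
import Groth.Agent.L03.BlowPt.Except
import Groth.Agent.L08.DescAction
import Groth.Agent.L16.ProjSpace.Dim
import Groth.Agent.L21.RR.TopVanish

/-!
# The fibre of a contraction and its universal property
-/

set_option autoImplicit false
set_option linter.style.haveILetI false
set_option backward.isDefEq.respectTransparency false

universe u

open CategoryTheory CategoryTheory.Limits AlgebraicGeometry TopologicalSpace Opposite

noncomputable section

namespace Groth.L13.Contraction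

variable {E X Z : Scheme.{u}} {ι : E ⟶ X}

/-- The fibre of a contraction over the centre is the contracted curve. -/
theorem mem_range_of_apply [IsNoetherian X] [IsClosedImmersion ι] (hE : Models.IsExcCurve ι) (b : X ⟶ Z)
    [IsLocallyNoetherian Z] {y : Z} (hy : IsClosed ({y} : Set Z))
    (hrange : Set.range ((ι ≫ b).base : E → Z) = {y}) (hreg : IsRegularLocalRing (Z.presheaf.stalk y))
    (hdim : ringKrullDim (Z.presheaf.stalk y) = 2)
    (hb : BlowUp.IsBlowUp b (Scheme.IdealSheafData.vanishingIdeal ⟨{y}, hy⟩)) (a : X) (ha : b a = y) :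
    a ∈ Set.range ι.base := by
  obtain ⟨D⟩ := Groth.L03.BlowPt.exists_echart hb hreg (by rw [hdim]; rfl)
  haveI := D.isIntegral
  let F := (Groth.L03.BlowPt.exc hy b).subscheme
  let j := Groth.L03.BlowPt.eι hy b
  have hmem : ∀ z : X, b z = y → z ∈ Set.range j.base := fun z hz => by
    rw [Scheme.IdealSheafData.range_subschemeι]
    show z ∈ (((Scheme.IdealSheafData.vanishingIdeal (⟨{y}, hy⟩ : Closeds Z)).comap b).support : Set X)
    rw [Scheme.IdealSheafData.support_comap]
    show b z ∈ ((Scheme.IdealSheafData.vanishingIdeal (⟨{y}, hy⟩ : Closeds Z)).support : Set Z)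
    simpa using hz
  have hE' : ∀ e : E, b (ι e) = y := fun e => by
    have : (ι ≫ b) e ∈ ({y} : Set Z) := hrange ▸ Set.mem_range_self e
    exact this
  obtain ⟨-, k, _, e, -⟩ := hE
  haveI : IsIntegral (CohB1.ProjSpace 1 k) := Groth.L16.ProjSpace.isIntegral (n := 1) (R := k)
  haveI : IrreducibleSpace E := by
    refine (irreducibleSpace_def _).2 ?_
    rw [Set.top_eq_univ, ← e.hom.homeomorph.surjective.range_eq, ← Set.image_univ]
    exact (IrreducibleSpace.isIrreducible_univ _).image _ e.hom.continuous.continuousOn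
  obtain ⟨z, hz⟩ : ∃ z : E, z ≠ genericPoint E := by
    by_contra hall
    push Not at hall
    haveI : Subsingleton E := ⟨fun a c => (hall a).trans (hall c).symm⟩
    haveI : Subsingleton (CohB1.ProjSpace 1 k) := e.hom.homeomorph.injective.subsingleton
    haveI : DiscreteTopology (CohB1.ProjSpace 1 k) := Subsingleton.discreteTopology
    have h0 := topologicalKrullDim_zero_of_discreteTopology (CohB1.ProjSpace 1 k)
    rw [Groth.L16.ProjSpace.topologicalKrullDim_eq_of_field (n := 1) k] at h0
    exact absurd h0 (by norm_num)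
  obtain ⟨g1, hg1⟩ := hmem _ (hE' (genericPoint E))
  obtain ⟨g2, hg2⟩ := hmem _ (hE' z)
  have hsp : g1 ⤳ g2 := by
    rw [j.isClosedEmbedding.isEmbedding.isInducing.specializes_iff.symm, hg1, hg2]
    exact (genericPoint_specializes z).map ι.continuous
  haveI : T0Space F.toTopCat := (inferInstance : T0Space F)
  rcases Groth.L21.RR.Top.spec_of_dim_le_one (X := F.toTopCat) D.dim_eq.le (genericPoint F) g1 g2
    (genericPoint_specializes g1) hsp with h | h
  · obtain ⟨w, hw⟩ := hmem a ha
    have h1 : ι (genericPoint E) ⤳ a := by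
      rw [← hg1, ← hw, ← h]
      exact (genericPoint_specializes w).map j.continuous
    exact h1.mem_closed ι.isClosedEmbedding.isClosed_range (Set.mem_range_self _)
  · exact absurd (ι.isClosedEmbedding.injective (hg1.symm.trans ((congrArg j.base h).trans hg2))) (Ne.symm hz)

/-- The universal property of a contraction. -/
theorem existsUnique_desc [IsNoetherian X] [IsClosedImmersion ι] (hE : Models.IsExcCurve ι) (b : X ⟶ Z)
    (hb : Models.IsContractionOf ι b) {Y : Scheme.{u}} (φ : X ⟶ Y) (y₀ : Y)
    (hφ : Set.range ((ι ≫ φ).base : E → Y) = {y₀}) : ∃! ψ : Z ⟶ Y, b ≫ ψ = φ := by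
  obtain ⟨hZ, hproper, y, hy, hrange, hreg, hdim, hbl⟩ := hb
  haveI := hreg
  haveI := hproper
  haveI : IsDomain (Z.presheaf.stalk y) := Groth.L01.isDomain_of_regular _
  have hpos : ¬ IsField (Z.presheaf.stalk y) := fun h => by
    rw [ringKrullDim_eq_zero_of_isField h] at hdim
    exact absurd hdim (by norm_num)
  have hbij := bijective_app hy b (Groth.L03.RegularNormal.isIntegrallyClosed _) hpos hbl
  haveI : Surjective b :=
    Groth.L08.DescAction.surjective_of_app_injective b b.isClosedMap fun U => (hbij U).1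
  refine Groth.L18.FactorDesc.existsUnique_desc b b.isClosedMap hbij φ fun a c hac => ?_
  by_cases ha : b a = y
  · obtain ⟨a', rfl⟩ := mem_range_of_apply hE b hy hrange hreg hdim hbl a ha
    obtain ⟨c', rfl⟩ := mem_range_of_apply hE b hy hrange hreg hdim hbl c (hac ▸ ha)
    have h1 : φ (ι a') = y₀ := Set.mem_singleton_iff.1 (hφ ▸ Set.mem_range_self (f := (ι ≫ φ).base) a')
    have h2 : φ (ι c') = y₀ := Set.mem_singleton_iff.1 (hφ ▸ Set.mem_range_self (f := (ι ≫ φ).base) c')
    exact h1.trans h2.symm
  · let C : Z.Opens := (Scheme.IdealSheafData.vanishingIdeal (⟨{y}, hy⟩ : Closeds Z)).support.compl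
    have hmem : ∀ z : X, b z ≠ y → z ∈ b ⁻¹ᵁ C := fun z hz h => hz (by
      have h' : b z ∈ ((Scheme.IdealSheafData.vanishingIdeal (⟨{y}, hy⟩ : Closeds Z)).support : Set Z) := h
      simpa using h')
    haveI := Groth.L22.Ideals.isIso_restrict_compl hbl
    have h1 : (b ∣_ C) ⟨a, hmem a ha⟩ = (b ∣_ C) ⟨c, hmem c (hac ▸ ha)⟩ :=
      Subtype.ext (by rw [morphismRestrict_base_coe, morphismRestrict_base_coe]; exact hac)
    have h2 := (b ∣_ C).homeomorph.injective h1
    rw [show a = c from congrArg Subtype.val h2]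

end Groth.L13.Contraction
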